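import Cfsg.Agent.H956.K4.AltIrr
import Cfsg.Agent.H956.K4.McLDeg
import Cfsg.Agent.H713.Spor.McL
import Cfsg.Agent.H740.K4.Four
import Cfsg.Agent.H714.K4.Defs

/-!
# `McL`: five good characters (helper956, for S4547, S4947, S4925)

* `exists_231` : the alternating square of the character of degree 22 is irreducible;
* `good5_mcl` : the rational characters of the degrees `231`, `5103` and `9625` have 7-defect zero, hence (helper740)
  there are five good characters;
* `rowA_mcl`.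
-/

set_option autoImplicit false

open Cfsg Cfsg.Agent.Characters.Core Cfsg.Agent.Characters.GaloisBasic Cfsg.Agent.H740.K4.Wedge

universe u

namespace Cfsg.Agent.H956.K4.McLRow

open Cfsg.Agent.H956.K4.RatDeg

theorem rat_of_rt {G : Type*} [Group G] [Finite G] {χ : G → ℂ} (hχ : IsCharacter G χ) (h : Rt χ) (g : G) :
    ∃ q : ℚ, χ g = q := by
  rw [exists_rat_iff hχ]
  intro m hm
  obtain ⟨σ, hσ⟩ := exists_ringEquiv_of_coprime (G := G) hm
  rw [← hσ χ hχ g, h σ g]

theorem rt_alt {G : Type*} [Group G] {χ : G → ℂ} (h : Rt χ) : Rt (alt χ) := by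
  intro σ g
  unfold alt
  rw [map_div₀, map_sub, map_pow, h, h, map_ofNat]

theorem transfer {S K : Type*} [Group S] [Group K] (f : S ≃* K) {d : ℕ}
    (h : ∃ χ : IrrCharacter K, charDegree (χ : K → ℂ) = d ∧ Rt (χ : K → ℂ)) :
    ∃ χ : IrrCharacter S, charDegree (χ : S → ℂ) = d ∧ Rt (χ : S → ℂ) := by
  obtain ⟨χ, h1, h2⟩ := h
  refine ⟨⟨fun s => (χ : K → ℂ) (f s), isIrr_comp f.toMonoidHom f.surjective χ.2⟩, ?_, fun σ g => h2 σ (f g)⟩
  rw [← h1]
  show ⌊((χ : K → ℂ) (f 1)).re⌋₊ = ⌊((χ : K → ℂ) 1).re⌋₊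
  rw [map_one]

section

open Cfsg.Agent.H419.LeechFix Cfsg.Agent.H419.LeechIrr Cfsg.Agent.H713.Spor.McL
  Cfsg.Agent.SporadicRecognition.TwoEmb Cfsg.Agent.SporadicA.Co0Mono
  Cfsg.Agent.SporadicRecognition.HSRank Cfsg.Agent.SporadicRecognition.HSParam

theorem three_smul {M X : Type*} [Group M] [MulAction M X] (h : MulAction.IsMultiplyPretransitive M X 3)
    {a b c a' b' c' : X} (h1 : a ≠ b) (h2 : a ≠ c) (h3 : b ≠ c) (h1' : a' ≠ b') (h2' : a' ≠ c') (h3' : b' ≠ c') :
    ∃ m : M, m • a = a' ∧ m • b = b' ∧ m • c = c' := by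
  have key : ∀ {a b c : X}, a ≠ b → a ≠ c → b ≠ c → Function.Injective ![a, b, c] := by
    intro a b c h1 h2 h3 i j hij
    fin_cases i <;> fin_cases j <;> simp_all
  let x : Fin 3 ↪ X := ⟨![a, b, c], key h1 h2 h3⟩
  let y : Fin 3 ↪ X := ⟨![a', b', c'], key h1' h2' h3'⟩
  obtain ⟨m, hm⟩ := MulAction.exists_smul_eq M x y
  have e : ∀ i, m • x i = y i := fun i => by rw [← hm]; rfl
  exact ⟨m, e 0, e 1, e 2⟩

/-- The alternating square, general form. -/
theorem exists_alt {G : Type*} [Group G] [Finite G] {M X : Type*} [Group M] [Finite M] [MulAction M X]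
    (h3 : MulAction.IsMultiplyPretransitive M X 3) (hX : Nat.card X = 22) (k : M →* G) (μ : IrrCharacter G)
    (hrt : Rt (μ : G → ℂ)) (hfix : ∀ s : M, (μ : G → ℂ) (k s) = (Nat.card (MulAction.fixedBy X s) : ℂ)) :
    IsIrrCharacter G (alt (μ : G → ℂ)) ∧ charDegree (alt (μ : G → ℂ)) = 231 ∧ Rt (alt (μ : G → ℂ)) := by
  classical
  have hfx : Finite X := Nat.finite_of_card_ne_zero (by rw [hX]; norm_num)
  have := Fintype.ofFinite X
  have hcard : Fintype.card X = 22 := by rw [← Nat.card_eq_fintype_card, hX]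
  obtain ⟨p⟩ : Nonempty X := by
    rw [← Fintype.card_pos_iff, hcard]
    norm_num
  have h1 : MulAction.IsPretransitive M X := by
    rw [← MulAction.is_one_pretransitive_iff]
    exact MulAction.isMultiplyPretransitive_of_le (n := 3) (by norm_num) (by rw [hX]; norm_num)
  have hirr := AltIrr.alt_irr μ.2 k (Ω := X) hfix (p := p) (fun a => MulAction.exists_smul_eq M p a)
    (fun a b c d ha hb hab hc hd hcd => by
      obtain ⟨m, e1, e2, e3⟩ := three_smul h3 (Ne.symm ha) (Ne.symm hb) hab (Ne.symm hc) (Ne.symm hd) hcd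
      exact ⟨m, e1, e2, e3⟩) (by rw [hcard]; norm_num)
  refine ⟨hirr, ?_, rt_alt hrt⟩
  have h4 : (μ : G → ℂ) 1 = 22 := by
    have h5 := hfix 1
    rw [map_one, MulAction.fixedBy_one_eq_univ, Nat.card_coe_set_eq, Set.ncard_univ, hX] at h5
    rw [h5]
    norm_num
  have h5 : alt (μ : G → ℂ) 1 = ((231 : ℕ) : ℂ) := by
    unfold alt
    rw [mul_one, h4]
    norm_num
  exact Cfsg.Agent.Blocks.Basic.charDegree_of_eq h5

set_option synthInstance.maxHeartbeats 400000 in
/-- The alternating square of the character of degree 22. -/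
theorem alt_mu (μ : IrrCharacter ↥(K (-Spor.leechV) Spor.leechU))
    (hμ : ∀ g, lchi (K (-Spor.leechV) Spor.leechU).subtype g =
      ((2 : ℕ) : ℂ) + (μ : ↥(K (-Spor.leechV) Spor.leechU) → ℂ) g) :
    IsIrrCharacter ↥(K (-Spor.leechV) Spor.leechU) (alt (μ : ↥(K (-Spor.leechV) Spor.leechU) → ℂ)) ∧
    charDegree (alt (μ : ↥(K (-Spor.leechV) Spor.leechU) → ℂ)) = 231 ∧
    Rt (alt (μ : ↥(K (-Spor.leechV) Spor.leechU) → ℂ)) := by
  classical
  have hfin : Finite ↥(K (-Spor.leechV) Spor.leechU) :=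
    Nat.finite_of_card_ne_zero (by rw [facts.2]; norm_num)
  have hrt : Rt (μ : ↥(K (-Spor.leechV) Spor.leechU) → ℂ) := by
    intro σ g
    have h1 := hμ g
    have h2 : (μ : ↥(K (-Spor.leechV) Spor.leechU) → ℂ) g = lchi (K (-Spor.leechV) Spor.leechU).subtype g - 2 := by
      rw [h1]
      push_cast
      ring
    rw [h2]
    unfold lchi
    rw [map_sub, map_div₀, map_intCast, map_ofNat, map_ofNat]
  have hfm : Finite St2 := by
    have : Finite (Equiv.Perm GolayPt) := inferInstance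
    have : Finite M24 := inferInstance
    infer_instance
  refine exists_alt three card_X2 k μ hrt ?_
  intro s
  have h1 := hμ (k s)
  have h2 : lchi (K (-Spor.leechV) Spor.leechU).subtype (k s) =
      (Nat.card (MulAction.fixedBy GolayPt ((s : St1) : M24)) : ℂ) := lchi_perm _ rfl
  rw [h2, card_fixedBy_stab, card_fixedBy_stab] at h1
  push_cast at h1
  have h3 := sub_eq_zero.2 h1
  refine sub_eq_zero.1 ?_
  rw [← neg_eq_zero, ← h3]
  ring

/-- The character of degree 22 and its alternating square. -/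
theorem exists_231 : ∃ χ : IrrCharacter ↥(K (-Spor.leechV) Spor.leechU),
    charDegree (χ : ↥(K (-Spor.leechV) Spor.leechU) → ℂ) = 231 ∧ Rt (χ : ↥(K (-Spor.leechV) Spor.leechU) → ℂ) := by
  obtain ⟨μ, -, hμ⟩ := exists_22
  obtain ⟨h1, h2, h3⟩ := alt_mu μ hμ
  exact ⟨⟨_, h1⟩, h2, h3⟩

end

section

open Cfsg.Agent.H904.McLCent Cfsg.Agent.McLType.X275 Cfsg.Agent.McLType.Gens Cfsg.Agent.H713.Spor.McL
open Cfsg.Agent.H956.K4.McLBase (card_K0)

theorem good5_mcl {S : Type u} [Group S] (h : Spor.IsoMcL S) : H601.K4.Good5 S := by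
  obtain ⟨θ, R⟩ := exists_rep h
  let f : S ≃* K0 := (MonoidHom.ofInjective R.inj).trans (MulEquiv.subgroupCongr R.range)
  have hc : Nat.card S = 898128000 := by rw [Nat.card_congr f.toEquiv, card_K0]
  have hfin : Finite S := Nat.finite_of_card_ne_zero (by rw [hc]; norm_num)
  obtain ⟨e⟩ := h
  obtain ⟨χ₁, h1, h1'⟩ := transfer (e.trans mclEquiv) exists_231
  obtain ⟨χ₂, h2, h2'⟩ := transfer f McLDeg.deg_5103
  obtain ⟨χ₃, h3, h3'⟩ := transfer f McLDeg.deg_9625
  have hd : ∀ (χ : IrrCharacter S) {d : ℕ}, charDegree (χ : S → ℂ) = d → (χ : S → ℂ) 1 = d := fun χ d hd => by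
    rw [Cfsg.Agent.Blocks.Basic.irr_one_eq_charDegree χ.2, hd]
  refine H740.K4.good5_of_defect_zero (p := 7) (n := 1) (d := ![231, 5103, 9625])
    (χ := ![(χ₁ : S → ℂ), (χ₂ : S → ℂ), (χ₃ : S → ℂ)]) (by rw [hc]; decide) (by norm_num) (by decide) (by norm_num)
    (by rw [hc]; norm_num) (by rw [hc]; norm_num) ?_ ?_ ?_ ?_ ?_ ?_ ?_
  · intro i
    fin_cases i
    exacts [χ₁.2, χ₂.2, χ₃.2]
  · intro i
    fin_cases i
    exacts [hd _ h1, hd _ h2, hd _ h3]
  · intro i
    fin_cases i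
    exacts [rat_of_rt (isIrr_isCharacter χ₁.2) h1', rat_of_rt (isIrr_isCharacter χ₂.2) h2',
      rat_of_rt (isIrr_isCharacter χ₃.2) h3']
  · intro i
    fin_cases i <;> decide
  · intro i
    fin_cases i <;> norm_num
  · intro i
    fin_cases i <;> norm_num
  · decide

theorem odd5_mcl {S : Type u} [Group S] (h : Spor.IsoMcL S) : H601.K4.Odd5 S := (good5_mcl h).odd5

theorem rowA_mcl {S : Type u} [Group S] [Finite S] (h : Spor.IsoMcL S) : H714.K4.RowA S := by
  classical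
  obtain ⟨χ, hinj, hχ⟩ := odd5_mcl h
  refine H714.K4.rowA_of_finset (Finset.univ.image χ) ?_ ?_
  · rw [Finset.card_image_of_injective _ hinj, Finset.card_univ, Fintype.card_fin]
  · intro ψ hψ
    obtain ⟨i, -, rfl⟩ := Finset.mem_image.1 hψ
    exact hχ i

end

end Cfsg.Agent.H956.K4.McLRow
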