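import Cfsg.Agent.H740.K4.Wedge
import Cfsg.Agent.S0157
import Cfsg.Agent.PermutationGroups.Subdegree

/-!
# The alternating square of a character which restricts to a 3-transitive permutation character (helper956)

`alt_irr` : `χ` is an irreducible character of `G`, `k : M →* G` a homomorphism, `M` is 3-transitive on `Ω` and
`χ (k m)` is the number of fixed points of `m` on `Ω`: then the alternating square of `χ` is irreducible.
-/

set_option autoImplicit false

open scoped ComplexConjugate TensorProduct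
open Cfsg Representation Module
open Cfsg.Agent.PermChar.TensorSquare Cfsg.Agent.H740.K4.Wedge Cfsg.Agent.Characters.Core

namespace Cfsg.Agent.H956.K4.AltIrr

section lin

variable {G : Type*} [Group G] {V W : Type*} [AddCommGroup V] [Module ℂ V] [AddCommGroup W] [Module ℂ W]

/-- an antisymmetric equivariant product -/
def Anti (ρ : Representation ℂ G V) (σ : Representation ℂ G W) (T : (V ⊗[ℂ] V) →ₗ[ℂ] W) : Prop :=
  (∀ g v w, T (ρ g v ⊗ₜ ρ g w) = σ g (T (v ⊗ₜ w))) ∧ ∀ v w, T (w ⊗ₜ v) = - T (v ⊗ₜ w)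

theorem inner_alt_le [FiniteDimensional ℂ V] [FiniteDimensional ℂ W] [Fintype G] (ρ : Representation ℂ G V)
    (σ : Representation ℂ G W) (z : V ⊗[ℂ] V)
    (U : Submodule ℂ W) (hU : ∀ T, Anti ρ σ T → T z ∈ U) (h0 : ∀ T, Anti ρ σ T → T z = 0 → T = 0) :
    ∃ n : ℕ, classInner (alt ρ.character) σ.character = n ∧ n ≤ finrank ℂ U := by
  have key : ∀ S : IntertwiningMap (rep2 ρ) (repSign σ 1), Anti ρ σ S.toLinearMap := by
    intro S
    refine ⟨?_, ?_⟩
    · intro g v w
      have h3 := S.isIntertwining (rep2 ρ) (repSign σ 1) (g, 1) (v ⊗ₜ w)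
      have h4 : (rep2 ρ) (g, 1) (v ⊗ₜ w) = ρ g v ⊗ₜ ρ g w := by
        show (TensorProduct.map (ρ g) (ρ g) * (if (1 : ℤˣ) = 1 then 1 else swap V)) (v ⊗ₜ w) = _
        rw [if_pos rfl, mul_one, TensorProduct.map_tmul]
      have h5 : (repSign σ 1) (g, 1) (S (v ⊗ₜ w)) = σ g (S (v ⊗ₜ w)) := by
        show ((((1 : ℤˣ) : ℤ) : ℂ) ^ 1 • σ g) (S (v ⊗ₜ w)) = _
        simp
      rw [h4, h5] at h3
      exact h3
    · intro v w
      have h3 := S.isIntertwining (rep2 ρ) (repSign σ 1) (1, -1) (v ⊗ₜ w)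
      have h4 : (rep2 ρ) (1, -1) (v ⊗ₜ w) = w ⊗ₜ v := by
        show (TensorProduct.map (ρ 1) (ρ 1) * (if (-1 : ℤˣ) = 1 then 1 else swap V)) (v ⊗ₜ w) = _
        rw [if_neg (by decide), map_one, TensorProduct.map_one, one_mul]
        rfl
      have h5 : (repSign σ 1) (1, -1) (S (v ⊗ₜ w)) = - S (v ⊗ₜ w) := by
        show ((((-1 : ℤˣ) : ℤ) : ℂ) ^ 1 • σ 1) (S (v ⊗ₜ w)) = _
        simp
      rw [h4, h5] at h3
      exact h3
  refine ⟨finrank ℂ (IntertwiningMap (rep2 ρ) (repSign σ 1)), ?_, ?_⟩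
  · have h1 := finrank_eq ρ σ 1
    have h3 : ∑ g : G, alt ρ.character g * conj (σ.character g) = 2⁻¹ * conj
        (∑ g : G, σ.character g * conj (ρ.character g ^ 2 + (-1) ^ 1 * ρ.character (g * g))) := by
      rw [map_sum, Finset.mul_sum]
      refine Finset.sum_congr rfl fun g _ => ?_
      rw [map_mul, Complex.conj_conj]
      unfold alt
      ring
    have hc : (Nat.card G : ℂ) ≠ 0 := card_ne_zero_complex
    rw [classInner_def, h3, ← h1]
    simp only [map_mul, map_natCast, map_ofNat]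
    field_simp
  · let F : IntertwiningMap (rep2 ρ) (repSign σ 1) →ₗ[ℂ] U :=
      { toFun := fun S => ⟨S.toLinearMap z, hU _ (key S)⟩
        map_add' := fun S S' => rfl
        map_smul' := fun c S => rfl }
    refine LinearMap.finrank_le_finrank_of_injective (f := F) ?_
    rw [injective_iff_map_eq_zero]
    intro S hS
    have h1 : S.toLinearMap z = 0 := congrArg Subtype.val hS
    have h2 := h0 _ (key S) h1
    apply DFunLike.ext
    intro x
    exact LinearMap.congr_fun h2 x

end lin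

open Cfsg.Agent.S0157 (permRepFun permRepFun_character)

/-- the restriction along a homomorphism -/
def res {G : Type*} [Group G] {M : Type*} [Group M] {V : Type*} [AddCommGroup V] [Module ℂ V]
    (ρ : Representation ℂ G V) (k : M →* G) : Representation ℂ M V := MonoidHom.comp ρ k

theorem res_apply {G : Type*} [Group G] {M : Type*} [Group M] {V : Type*} [AddCommGroup V] [Module ℂ V]
    (ρ : Representation ℂ G V) (k : M →* G) (m : M) : res ρ k m = ρ (k m) := rfl

theorem res_character {G : Type*} [Group G] {M : Type*} [Group M] {V : Type*} [AddCommGroup V] [Module ℂ V]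
    (ρ : Representation ℂ G V) (k : M →* G) (m : M) : (res ρ k).character m = ρ.character (k m) := rfl

theorem trivial_character {G : Type*} [Group G] :
    (Representation.trivial ℂ G ℂ).character = fun _ => 1 := by
  funext s
  show LinearMap.trace ℂ ℂ ((Representation.trivial ℂ G ℂ) s) = 1
  have : (Representation.trivial ℂ G ℂ) s = 1 := rfl
  rw [this, LinearMap.trace_one, finrank_self, Nat.cast_one]

/-- A basis permuted by `M`. -/
structure PB {M : Type*} [Group M] {Ω : Type*} [Fintype Ω] [MulAction M Ω] {V : Type*} [AddCommGroup V] [Module ℂ V]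
    (τ : Representation ℂ M V) (e : Ω → V) : Prop where
  act : ∀ (m : M) (q : Ω), τ m (e q) = e (m • q)
  ext : ∀ (X : Type) [AddCommGroup X] [Module ℂ X] (f : V →ₗ[ℂ] X), (∀ q, f (e q) = 0) → f = 0
  ne : Nonempty Ω → ∑ q, e q ≠ 0

theorem exists_pb {M : Type*} [Group M] [Finite M] {Ω : Type*} [Fintype Ω] [MulAction M Ω] {V : Type*} [AddCommGroup V]
    [Module ℂ V] [FiniteDimensional ℂ V] (τ : Representation ℂ M V)
    (hfix : ∀ m, τ.character m = (Nat.card (MulAction.fixedBy Ω m) : ℂ)) : ∃ e : Ω → V, PB τ e := by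
  classical
  have hch : (permRepFun M Ω).character = τ.character := by
    funext m
    rw [permRepFun_character, ← hfix m]
  obtain ⟨E⟩ := nonempty_equiv_of_character_eq (permRepFun M Ω) τ hch
  let L : (Ω → ℂ) ≃ₗ[ℂ] V := E.toLinearEquiv
  refine ⟨fun q => L (Pi.single q 1), ?_, ?_, ?_⟩
  · intro m q
    have h4 : L (permRepFun M Ω m (Pi.single q 1)) = τ m (L (Pi.single q 1)) :=
      E.toIntertwiningMap.isIntertwining _ _ m (Pi.single q 1)
    have h5 : permRepFun M Ω m (Pi.single q 1) = Pi.single (m • q) 1 := by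
      funext x
      show (Pi.single q 1 : Ω → ℂ) (m⁻¹ • x) = _
      rw [Pi.single_apply, Pi.single_apply]
      by_cases h : x = m • q
      · rw [if_pos h, if_pos (by rw [h, inv_smul_smul])]
      · rw [if_neg h, if_neg fun h' => h (by rw [← h', smul_inv_smul])]
    rw [h5] at h4
    exact h4.symm
  · intro X _ _ f hf
    have h4 : f.comp L.toLinearMap = 0 := by
      refine (Pi.basisFun ℂ Ω).ext fun q => ?_
      rw [Pi.basisFun_apply]
      exact hf q
    apply LinearMap.ext
    intro x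
    have h5 := LinearMap.congr_fun h4 (L.symm x)
    simpa using h5
  · rintro ⟨p⟩ h
    have h4 : L (∑ q : Ω, Pi.single q (1 : ℂ)) = 0 := by
      rw [map_sum]
      exact h
    have h5 := (LinearEquiv.map_eq_zero_iff L).1 h4
    have h6 := congrFun h5 p
    rw [Finset.sum_apply, Finset.sum_eq_single p (fun q _ hq => by rw [Pi.single_eq_of_ne hq.symm])
      (fun h => absurd (Finset.mem_univ p) h), Pi.single_eq_same] at h6
    exact one_ne_zero h6

section main

variable {G : Type*} [Group G] {M : Type*} [Group M] (k : M →* G) {Ω : Type*} [Fintype Ω] [MulAction M Ω] {n : ℕ}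
  {ρ : Representation ℂ G (Fin n → ℂ)} {e : Ω → (Fin n → ℂ)}

/-- An antisymmetric product is determined by one value. -/
theorem zero_of_zero (hρ : ρ.IsIrreducible) (he : PB (res ρ k) e) {p : Ω} (h1 : ∀ a, ∃ m : M, m • p = a) {N : ℕ}
    {σ : Representation ℂ G (Fin N → ℂ)} {T : ((Fin n → ℂ) ⊗[ℂ] (Fin n → ℂ)) →ₗ[ℂ] (Fin N → ℂ)} (hT : Anti ρ σ T)
    (hz : T ((∑ q, e q) ⊗ₜ[ℂ] e p) = 0) : T = 0 := by
  set e0 : Fin n → ℂ := ∑ q, e q with he0'
  have he0 : ∀ m : M, ρ (k m) e0 = e0 := by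
    intro m
    rw [he0', map_sum]
    exact (Finset.sum_congr rfl fun q _ => he.act m q).trans (Equiv.sum_comp (MulAction.toPerm m) e)
  have h4 : ∀ q, T (e0 ⊗ₜ[ℂ] e q) = 0 := by
    intro q
    obtain ⟨m, hm⟩ := h1 q
    have h5 := hT.1 (k m) e0 (e p)
    have h6 : ρ (k m) (e p) = e (m • p) := he.act m p
    rw [he0, h6, hm, hz, map_zero] at h5
    exact h5
  have h5 : ∀ v, T (e0 ⊗ₜ[ℂ] v) = 0 := by
    intro v
    have h6 := he.ext _ (T.comp (TensorProduct.mk ℂ _ _ e0)) (fun q => h4 q)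
    exact LinearMap.congr_fun h6 v
  have h6 : ∀ g v, T (ρ g e0 ⊗ₜ[ℂ] v) = 0 := by
    intro g v
    have h7 := hT.1 g e0 (ρ g⁻¹ v)
    have h8 : ρ g (ρ g⁻¹ v) = v := by
      rw [← Module.End.mul_apply, ← map_mul, mul_inv_cancel, map_one, Module.End.one_apply]
    rw [h8, h5, map_zero] at h7
    exact h7
  let U : Subrepresentation ρ :=
    { toSubmodule :=
        { carrier := {u | ∀ g v, T (ρ g u ⊗ₜ[ℂ] v) = 0}
          add_mem' := by
            intro a b ha hb g v
            rw [map_add, TensorProduct.add_tmul, map_add, ha, hb, add_zero]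
          zero_mem' := by
            intro g v
            rw [map_zero, TensorProduct.zero_tmul, map_zero]
          smul_mem' := by
            intro c a ha g v
            rw [map_smul, ← TensorProduct.smul_tmul', map_smul, ha, smul_zero] }
      apply_mem_toSubmodule := by
        intro g v hv g' w
        have h7 := hv (g' * g) w
        rw [map_mul, Module.End.mul_apply] at h7
        exact h7 }
  have hU0 : U ≠ ⊥ := by
    intro h
    apply he.ne ⟨p⟩
    have h7 : e0 ∈ U := h6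
    rw [h] at h7
    exact h7
  have hUt : U = ⊤ := (hρ.eq_bot_or_eq_top U).resolve_left hU0
  apply TensorProduct.ext'
  intro u v
  have h7 : u ∈ U := by
    rw [hUt]
    exact Submodule.mem_top
  have h8 := h7 1 v
  rw [map_one, Module.End.one_apply] at h8
  rw [h8, LinearMap.zero_apply]

theorem mem_inv (he : PB (res ρ k) e) (p : Ω) {N : ℕ}
    {σ : Representation ℂ G (Fin N → ℂ)} {T : ((Fin n → ℂ) ⊗[ℂ] (Fin n → ℂ)) →ₗ[ℂ] (Fin N → ℂ)} (hT : Anti ρ σ T) :
    T ((∑ q, e q) ⊗ₜ[ℂ] e p) ∈ invariants (res σ (k.comp (MulAction.stabilizer M p).subtype)) := by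
  rw [Representation.mem_invariants]
  intro s
  show σ (k s) (T ((∑ q, e q) ⊗ₜ[ℂ] e p)) = T ((∑ q, e q) ⊗ₜ[ℂ] e p)
  have h1 : ρ (k s) (e p) = e p := by
    have h2 : ρ (k s) (e p) = e ((s : M) • p) := he.act s p
    rw [h2, show ((s : M) • p) = p from s.2]
  have h2 : ρ (k s) (∑ q, e q) = ∑ q, e q := by
    rw [map_sum]
    exact (Finset.sum_congr rfl fun q _ => he.act (s : M) q).trans (Equiv.sum_comp (MulAction.toPerm (s : M)) e)
  rw [← hT.1, h1, h2]

/-- The forms fixed by the stabilizer of a point. -/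
theorem form_zero (he : PB (res ρ k) e) {p b : Ω} (hb : b ≠ p)
    (h2 : ∀ a b c d : Ω, a ≠ p → b ≠ p → a ≠ b → c ≠ p → d ≠ p → c ≠ d →
      ∃ m : M, m • p = p ∧ m • a = c ∧ m • b = d)
    {T : ((Fin n → ℂ) ⊗[ℂ] (Fin n → ℂ)) →ₗ[ℂ] ℂ}
    (hT : Anti (res ρ (k.comp (MulAction.stabilizer M p).subtype))
      (Representation.trivial ℂ (MulAction.stabilizer M p) ℂ) T)
    (hz : T (e p ⊗ₜ[ℂ] e b) = 0) : T = 0 := by
  have hinv : ∀ (m : M), m • p = p → ∀ x y, T (e (m • x) ⊗ₜ[ℂ] e (m • y)) = T (e x ⊗ₜ[ℂ] e y) := by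
    intro m hm x y
    have h5 := hT.1 (⟨m, hm⟩ : MulAction.stabilizer M p) (e x) (e y)
    have h6 : ∀ x, (res ρ (k.comp (MulAction.stabilizer M p).subtype)) (⟨m, hm⟩ : MulAction.stabilizer M p) (e x) =
      e (m • x) := fun x => he.act m x
    rw [h6, h6] at h5
    exact h5
  have hself : ∀ v, T (v ⊗ₜ[ℂ] v) = 0 := by
    intro v
    have h5 := hT.2 v v
    exact self_eq_neg.1 h5
  have hp : ∀ q, T (e p ⊗ₜ[ℂ] e q) = 0 := by
    intro q
    by_cases hq : q = p
    · rw [hq]
      exact hself _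
    · by_cases hqb : q = b
      · rw [hqb]
        exact hz
      · obtain ⟨m, hm, hm2, -⟩ := h2 b q q b hb hq (Ne.symm hqb) hq hb hqb
        have h5 := hinv m hm p b
        rw [hm, hm2, hz] at h5
        exact h5
  have hall : ∀ x y, T (e x ⊗ₜ[ℂ] e y) = 0 := by
    intro x y
    by_cases hx : x = p
    · rw [hx]
      exact hp y
    · by_cases hy : y = p
      · rw [hy, hT.2, hp, neg_zero]
      · by_cases hxy : x = y
        · rw [hxy]
          exact hself _
        · obtain ⟨m, hm, hm2, hm3⟩ := h2 x y y x hx hy hxy hy hx (Ne.symm hxy)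
          have h5 := hinv m hm x y
          rw [hm2, hm3, hT.2] at h5
          exact neg_eq_self.1 h5
  have h5 : ∀ x v, T (e x ⊗ₜ[ℂ] v) = 0 := by
    intro x v
    have h6 := he.ext _ (T.comp (TensorProduct.mk ℂ _ _ (e x))) (fun q => hall x q)
    exact LinearMap.congr_fun h6 v
  have h6 : ∀ v, T.comp ((TensorProduct.mk ℂ (Fin n → ℂ) (Fin n → ℂ)).flip v) = 0 :=
    fun v => he.ext _ _ (fun q => h5 q v)
  apply TensorProduct.ext'
  intro u v
  exact LinearMap.congr_fun (h6 v) u

theorem inner_le [Fintype G] [Finite M] (hρ : ρ.IsIrreducible) (he : PB (res ρ k) e) {p b : Ω} (hb : b ≠ p)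
    (h1 : ∀ a, ∃ m : M, m • p = a)
    (h2 : ∀ a b c d : Ω, a ≠ p → b ≠ p → a ≠ b → c ≠ p → d ≠ p → c ≠ d →
      ∃ m : M, m • p = p ∧ m • a = c ∧ m • b = d)
    {N : ℕ} {σ : Representation ℂ G (Fin N → ℂ)} (hσ : σ.character = alt ρ.character) :
    ∃ n : ℕ, classInner (alt ρ.character) (alt ρ.character) = n ∧ n ≤ 1 := by
  have : Fintype (MulAction.stabilizer M p) := Fintype.ofFinite _
  obtain ⟨n1, hn1, hn1'⟩ := inner_alt_le ρ σ ((∑ q, e q) ⊗ₜ[ℂ] e p)
    (invariants (res σ (k.comp (MulAction.stabilizer M p).subtype)))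
    (fun T hT => mem_inv k he p hT) (fun T hT hz => zero_of_zero k hρ he h1 hT hz)
  obtain ⟨n2, hn2, hn2'⟩ := inner_alt_le (res ρ (k.comp (MulAction.stabilizer M p).subtype))
    (Representation.trivial ℂ (MulAction.stabilizer M p) ℂ) (e p ⊗ₜ[ℂ] e b) ⊤ (fun T hT => Submodule.mem_top)
    (fun T hT hz => form_zero k he hb h2 hT hz)
  rw [finrank_top, finrank_self] at hn2'
  have h4 := Cfsg.Agent.PermutationGroups.Subdegree.classInner_one_eq_finrank
    (res σ (k.comp (MulAction.stabilizer M p).subtype))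
  have h5 : (res σ (k.comp (MulAction.stabilizer M p).subtype)).character =
      alt (res ρ (k.comp (MulAction.stabilizer M p).subtype)).character := by
    funext s
    rw [res_character, hσ]
    unfold alt
    rw [res_character, res_character, map_mul]
  rw [trivial_character] at hn2
  rw [h5, hn2] at h4
  have h7 : n2 = finrank ℂ (invariants (res σ (k.comp (MulAction.stabilizer M p).subtype))) := by exact_mod_cast h4
  rw [hσ] at hn1
  exact ⟨n1, hn1, by omega⟩

end main

theorem alt_irr {G : Type*} [Group G] [Finite G] {χ : G → ℂ} (hχ : IsIrrCharacter G χ) {M : Type*} [Group M]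
    [Finite M] (k : M →* G) {Ω : Type*} [Fintype Ω] [MulAction M Ω]
    (hfix : ∀ m, χ (k m) = (Nat.card (MulAction.fixedBy Ω m) : ℂ)) {p : Ω}
    (h1 : ∀ a, ∃ m : M, m • p = a)
    (h2 : ∀ a b c d : Ω, a ≠ p → b ≠ p → a ≠ b → c ≠ p → d ≠ p → c ≠ d →
      ∃ m : M, m • p = p ∧ m • a = c ∧ m • b = d)
    (h3 : 3 ≤ Fintype.card Ω) : IsIrrCharacter G (alt χ) := by
  classical
  have := Fintype.ofFinite G
  obtain ⟨N, σ, hσ⟩ := isCharacter_alt (isIrr_isCharacter hχ)
  have hχ' := hχ
  obtain ⟨n, ρ, hρ, hρχ⟩ := hχ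
  obtain ⟨e, he⟩ := exists_pb (Ω := Ω) (res ρ k) (fun m => by rw [res_character, hρχ, hfix])
  obtain ⟨b, hb⟩ : ∃ b : Ω, b ≠ p := by
    have h4 : 1 < Fintype.card Ω := by omega
    have := Fintype.one_lt_card_iff_nontrivial.1 h4
    exact exists_ne p
  obtain ⟨n1, hn1, hn1'⟩ := inner_le k hρ he hb h1 h2 (σ := σ) (by rw [hσ, hρχ])
  rw [hρχ] at hn1
  have h8 : χ 1 = (Fintype.card Ω : ℂ) := by
    rw [← map_one k, hfix, MulAction.fixedBy_one_eq_univ, Nat.card_coe_set_eq, Set.ncard_univ,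
      Nat.card_eq_fintype_card]
  have h9 : alt χ ≠ 0 := by
    intro h
    have h10 := congrFun h 1
    unfold alt at h10
    rw [mul_one, h8, Pi.zero_apply] at h10
    have h11 : ((Fintype.card Ω * Fintype.card Ω : ℕ) : ℂ) = ((Fintype.card Ω : ℕ) : ℂ) := by
      push_cast
      linear_combination 2 * h10
    have h12 : Fintype.card Ω * Fintype.card Ω = Fintype.card Ω := by exact_mod_cast h11
    nlinarith
  have h10 : n1 ≠ 0 := by
    intro h
    rw [h, Nat.cast_zero] at hn1
    exact h9 (classInner_self_eq_zero hn1)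
  have h11 : n1 = 1 := by omega
  rw [h11, Nat.cast_one] at hn1
  exact isIrr_of_classInner_self (isCharacter_alt (isIrr_isCharacter hχ')) hn1

end Cfsg.Agent.H956.K4.AltIrr
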