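import Cfsg.Agent.H904.McLCent
import Cfsg.Agent.H956.K4.McLData
import Cfsg.Agent.H678.DG.PairRep

/-!
# The action of `McL` on the 22275 pairs of non-adjacent vertices: the tables (helper956, row `McL` of S4947 and S4547)
-/

set_option autoImplicit false
set_option maxRecDepth 100000

namespace Cfsg.Agent.H956.K4.McLBase

open Cfsg Equiv Cfsg.Agent.SporadicA.PermTab Cfsg.Agent.H904.McLCent Cfsg.Agent.McLType.X275 Cfsg.Agent.McLType.Gens Cfsg.Agent.H678.DG.Blk Cfsg.Agent.H678.DG.Pts Cfsg.Agent.H678.DG.PairRep Cfsg.Agent.H678.DG Cfsg.Agent.H956.K4.McLData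

/-- the entries of a list -/
def nth {α : Type} (d : α) : List α → ℕ → α := List.rec (fun _ => d) (fun b _ ih j => Nat.rec b (fun j' _ => ih j') j)

/-- blocks of 29 entries -/
def blk (t : List (List ℕ)) (k : ℕ) : ℕ := nth 0 (nth [] t (Nat.div k 812)) (Nat.mod (Nat.div k 29) 28)

/-- first points -/
def ea (k : ℕ) : ℕ := lk (blk ta k) (Nat.mod k 29)

/-- second points -/
def eb (k : ℕ) : ℕ := lk (blk tb k) (Nat.mod k 29)

/-- the number of a pair -/
def ix (i j : ℕ) : ℕ :=
  Nat.land (Nat.shiftRight (nth 0 (nth [] ixt (Nat.div i 17)) (Nat.mod i 17)) (Nat.mul 15 j)) 32767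

/-- the parents -/
def pr (k : ℕ) : ℕ := Nat.land (Nat.shiftRight (blk prt k) (Nat.mul 15 (Nat.mod k 29))) 32767

/-- non-adjacent vertices -/
def R (i j : ℕ) : Bool := cond (Nat.beq i j) false (Nat.beq (bitM 275 adjM i j) 0)

theorem dat : Data 275 22275 R ea eb ix := Data.mk' (by decide +kernel) (by decide +kernel)

theorem hR : ∀ g ∈ K0, ∀ i j : Fin 275, R (g i) (g j) = R i j := by
  intro g hg i j
  unfold R
  have h2 : Nat.beq (g i : Fin 275) (g j : Fin 275) = Nat.beq i j := by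
    rw [Bool.eq_iff_iff, Nat.beq_eq, Nat.beq_eq, ← Fin.ext_iff, ← Fin.ext_iff, g.injective.eq_iff]
  rw [h2, K0_le hg i j]

theorem word_of {L : List ℕ} {S : ℕ} (hL : L ⊆ e7) (hS : chkWord 275 S L = true) : InG K0 S :=
  InG.word (fun P hP => inAll P (hL hP)) hS

theorem card_K0 : Nat.card K0 = 898128000 := by
  rw [← range_ψ, ← Nat.card_congr (MonoidHom.ofInjective ψ_injective).toEquiv, card_G1]

/-- the permutations -/
def T (x : Fin 14) : ℕ := [T0, T1, T2, T3, T4, T5, T6, T7, T8, T9, T10, T11, T12, T13].getD x 0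

theorem in0 : InG K0 T0 := word_of (L := [e_y, e_g, e_x, e_y, e_a, e_b, e_c, e_x, e_w, e_g, e_w, e_g, e_x, e_y, e_a]) (by simp [e7]) (by decide +kernel)

theorem in1 : InG K0 T1 := word_of (L := [e_w]) (by simp [e7]) (by decide +kernel)

theorem in2 : InG K0 T2 := word_of (L := [e_x]) (by simp [e7]) (by decide +kernel)

theorem in3 : InG K0 T3 := word_of (L := [e_a, e_c]) (by simp [e7]) (by decide +kernel)

theorem in4 : InG K0 T4 := word_of (L := [e_x, e_y]) (by simp [e7]) (by decide +kernel)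

theorem in5 : InG K0 T5 := word_of (L := [e_c, e_a, e_y]) (by simp [e7]) (by decide +kernel)

theorem in6 : InG K0 T6 := word_of (L := [e_a, e_c, e_y]) (by simp [e7]) (by decide +kernel)

theorem in7 : InG K0 T7 := word_of (L := [e_a, e_c, e_a, e_y]) (by simp [e7]) (by decide +kernel)

theorem in8 : InG K0 T8 := word_of (L := [e_c, e_w, e_g, e_y]) (by simp [e7]) (by decide +kernel)

theorem in9 : InG K0 T9 := word_of (L := [e_a, e_w, e_y]) (by simp [e7]) (by decide +kernel)

theorem in10 : InG K0 T10 := word_of (L := [e_y, e_g, e_w, e_c]) (by simp [e7]) (by decide +kernel)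

theorem in11 : InG K0 T11 := word_of (L := [e_a, e_y, e_w, e_x, e_y]) (by simp [e7]) (by decide +kernel)

theorem in12 : InG K0 T12 := word_of (L := [e_y, e_x, e_y, e_w, e_a, e_y]) (by simp [e7]) (by decide +kernel)

theorem in13 : InG K0 T13 := word_of (L := [e_y, e_x, e_y, e_w, e_a, e_c, e_y]) (by simp [e7]) (by decide +kernel)

theorem hT (x : Fin 14) : InG K0 (T x) := by
  fin_cases x
  exacts [in0, in1, in2, in3, in4, in5, in6, in7, in8, in9, in10, in11, in12, in13]

/-- the roots -/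
def bs : List ℕ := [1, 211, 323, 3683, 7043, 10403, 10613, 13133, 13343, 15863, 16983, 21015]

/-- words of the stabiliser -/
def KW : List (List (Fin 14)) := [[0], [1]]

/-- sizes -/
def kk (j : ℕ) : ℕ := [1, 210, 112, 3360, 3360, 3360, 210, 2520, 210, 2520, 1120, 4032, 1260].getD j 0

/-- the permutations mapping the first pair to the roots -/
def gam (j : ℕ) : List (Fin 14) := [[], [2], [3], [4], [5], [6], [7], [8], [9], [10], [11], [12], [13]].getD j []

/-- the collapsed matrix -/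
def B (i j : ℕ) : ℕ := ([[0, 0, 0, 0, 0, 0, 0, 0, 0, 0, 0, 4032, 0], [0, 0, 0, 0, 288, 288, 0, 576, 0, 576, 288, 1440, 576],
    [0, 0, 36, 0, 540, 540, 0, 540, 0, 540, 180, 1116, 540], [0, 0, 0, 348, 504, 504, 24, 504, 24, 504, 216, 1008, 396],
    [0, 18, 18, 504, 570, 570, 42, 474, 24, 474, 222, 834, 282], [0, 18, 18, 504, 570, 570, 24, 474, 42, 474, 222, 834, 282],
    [0, 0, 0, 384, 672, 384, 0, 480, 0, 480, 192, 1056, 384], [0, 48, 24, 672, 632, 632, 40, 496, 40, 424, 184, 664, 176],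
    [0, 0, 0, 384, 384, 672, 0, 480, 0, 480, 192, 1056, 384], [0, 48, 24, 672, 632, 632, 40, 424, 40, 496, 184, 664, 176],
    [0, 54, 18, 648, 666, 666, 36, 414, 36, 414, 234, 666, 180], [1, 75, 31, 840, 695, 695, 55, 415, 55, 415, 185, 475, 95],
    [0, 96, 48, 1056, 752, 752, 64, 352, 64, 352, 160, 304, 32]].getD i []).getD j 0

end Cfsg.Agent.H956.K4.McLBase
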