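import Cfsg.Agent.H956.K4.McLBase

/-!
# The action of `McL` on the 22275 pairs of non-adjacent vertices: the checks (helper956)
-/

set_option autoImplicit false
set_option maxRecDepth 100000

namespace Cfsg.Agent.H956.K4.McLPts

open Cfsg.Agent.H678.DG Cfsg.Agent.H678.DG.PairRep Cfsg.Agent.H678.DG.Blk Cfsg.Agent.H956.K4.McLBase

theorem c1 : allL (Pts.chkW (fun x => ap ea eb ix (T x)) 22275 bs) KW = true := by decide +kernel

theorem c3 : chkK 22275 13 bs kk = true := by decide +kernel

end Cfsg.Agent.H956.K4.McLPts
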