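import Cfsg.Agent.H956.K4.McLBase

/-!
# The action of `McL` on the 22275 pairs of non-adjacent vertices: the checks (helper956; split by helper571)
-/

set_option autoImplicit false
set_option maxRecDepth 100000

namespace Cfsg.Agent.H956.K4.McLPts

open Cfsg.Agent.SporadicA.PermTab Cfsg.Agent.H678.DG Cfsg.Agent.H678.DG.PairRep Cfsg.Agent.H678.DG.Blk
open Cfsg.Agent.H956.K4.McLBase

theorem pk_of (p : ℕ → Bool) (f : ℕ → ℕ) (T : ℕ) : ∀ n acc : ℕ,
    acc + ∑ k ∈ (Finset.range n).filter (fun k => p k = true), 65536 ^ f k = T → Pts.pk p f T n acc = true := by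
  intro n
  induction n with
  | zero =>
    intro acc h
    rw [Finset.range_zero, Finset.filter_empty, Finset.sum_empty, add_zero] at h
    rw [h]
    exact Nat.beq_refl T
  | succ n ih =>
    intro acc h
    rw [Finset.range_add_one, Finset.filter_insert] at h
    rw [Pts.pk_succ]
    cases hp : p n with
    | true =>
      rw [hp, if_pos rfl, Finset.sum_insert (by simp)] at h
      rw [cond_true, forceB_eq]
      apply ih
      have h2 : Nat.add acc (Nat.pow 65536 (f n)) = acc + 65536 ^ f n := rfl
      rw [h2, ← h]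
      ring
    | false =>
      rw [hp, if_neg (by simp)] at h
      rw [cond_false]
      exact ih _ h

theorem pk_iv {p : ℕ → Bool} {f : ℕ → ℕ} {T M a m : ℕ} (hM : a + m ≤ M)
    (hp : allB (fun k => beqb (p k) (band (Nat.ble a k) (Nat.blt k (a + m)))) M = true)
    (h : Pts.pk (fun _ => true) (fun j => f (a + j)) T m 0 = true) : Pts.pk p f T M 0 = true := by
  apply pk_of
  have h1 := Pts.pk_spec _ _ _ _ _ h
  rw [Finset.filter_true_of_mem (fun _ _ => rfl), zero_add] at h1
  have h3 := Finset.sum_Ico_eq_sum_range (fun k => 65536 ^ f k) a (a + m)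
  rw [Nat.add_sub_cancel_left] at h3
  rw [zero_add, ← h1, ← h3]
  apply Finset.sum_congr _ fun _ _ => rfl
  ext k
  rw [Finset.mem_filter, Finset.mem_Ico, Finset.mem_range]
  have h4 : band (Nat.ble a k) (Nat.blt k (a + m)) = true ↔ a ≤ k ∧ k < a + m := by
    rw [band_eq_true, Nat.ble_eq, Nat.blt_eq]
  constructor
  · rintro ⟨hk, hpk⟩
    have h2 := (beqb_iff _ _).1 ((allB_iff _ _).1 hp k hk)
    rw [hpk] at h2
    exact h4.1 h2.symm
  · intro hk
    have hk' : k < M := by omega
    have h2 := (beqb_iff _ _).1 ((allB_iff _ _).1 hp k hk')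
    exact ⟨hk', h2.trans (h4.2 hk)⟩

/-- row `i` of the check `c4` -/
def c4r (i : ℕ) : Bool :=
  Pts.pk (fun _ => true) (fun j => lab bs (Pts.av (fun x => ap ea eb ix (T x)) (gam i) (16983 + j))) (Pts.row (B i) 13) 4032 0

theorem c4_iv : allB (fun k => beqb (Nat.beq (lab bs k) 11) (band (Nat.ble 16983 k) (Nat.blt k (16983 + 4032)))) 22275 = true := by
  decide +kernel

theorem c4_rt : allB (fun i => Nat.beq (Pts.av (fun x => ap ea eb ix (T x)) (gam i) 0) (rt bs i)) 13 = true := by
  decide +kernel

theorem c4_0 : c4r 0 = true := by decide +kernel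

theorem c4_1 : c4r 1 = true := by decide +kernel

theorem c4_2 : c4r 2 = true := by decide +kernel

theorem c4_3 : c4r 3 = true := by decide +kernel

theorem c4_4 : c4r 4 = true := by decide +kernel

theorem c4_5 : c4r 5 = true := by decide +kernel

theorem c4_6 : c4r 6 = true := by decide +kernel

theorem c4_7 : c4r 7 = true := by decide +kernel

theorem c4_8 : c4r 8 = true := by decide +kernel

theorem c4_9 : c4r 9 = true := by decide +kernel

theorem c4_10 : c4r 10 = true := by decide +kernel

theorem c4_11 : c4r 11 = true := by decide +kernel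

theorem c4_12 : c4r 12 = true := by decide +kernel

theorem c4 : Pts.chkB (fun x => ap ea eb ix (T x)) 22275 13 11 bs gam B = true := by
  refine (allB_iff _ 13).2 fun i hi => ?_
  rw [band_eq_true]
  refine ⟨(allB_iff _ 13).1 c4_rt i hi, ?_⟩
  refine pk_iv (a := 16983) (m := 4032) (by norm_num) c4_iv ?_
  match i, hi with
  | 0, _ => exact c4_0
  | 1, _ => exact c4_1
  | 2, _ => exact c4_2
  | 3, _ => exact c4_3
  | 4, _ => exact c4_4
  | 5, _ => exact c4_5
  | 6, _ => exact c4_6
  | 7, _ => exact c4_7
  | 8, _ => exact c4_8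
  | 9, _ => exact c4_9
  | 10, _ => exact c4_10
  | 11, _ => exact c4_11
  | 12, _ => exact c4_12
  | i + 13, hi => exact absurd hi (by omega)

end Cfsg.Agent.H956.K4.McLPts
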